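import Cfsg.Agent.H685.CY.AD
import Cfsg.Agent.H685.BR.Defs
import Cfsg.Agent.H362.CY.Compl
import Cfsg.Agent.S4441

/-!
# S4829 : Sylow `p`-subgroups of order `p` with `|N(P) : C(P)| = p - 1` (helper685)

`rowA_of_full` : then the row of S4857 gives `RowA p S`.
-/

set_option autoImplicit false
set_option linter.unusedSectionVars false

namespace Cfsg.Agent.H685.CY

open Cfsg Cfsg.Agent.H770.CY Cfsg.Agent.H684.BlockTools Cfsg.Agent.Blocks.Local Cfsg.Agent.Characters.Core
open Subgroup
open scoped Pointwise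

universe u

section

variable {S : Type u} [Group S] [Finite S] {p : ℕ} [hp : Fact p.Prime]

theorem exists_norm (P : Sylow p S) (x : MulAut S) : ∃ s : S, ∀ y ∈ (P : Subgroup S), (MulAut.conj s * x) y ∈ (P : Subgroup S) := by
  let R : Sylow p S := x • P
  obtain ⟨s, hs⟩ := MulAction.exists_smul_eq S R P
  refine ⟨s, fun y hy => ?_⟩
  have h1 : x y ∈ (R : Subgroup S) := by
    change x y ∈ x • (P : Subgroup S)
    exact Subgroup.smul_mem_pointwise_smul y x _ hy
  have h2 : s * x y * s⁻¹ ∈ ((s • R : Sylow p S) : Subgroup S) := by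
    change MulAut.conj s (x y) ∈ MulAut.conj s • (R : Subgroup S)
    exact Subgroup.smul_mem_pointwise_smul _ (MulAut.conj s) _ h1
  rw [hs] at h2
  exact h2

/-- every automorphism is inner times one centralizing `P` -/
theorem exists_cent (P : Sylow p S) (hP : Nat.card (P : Subgroup S) = p)
    (he : (centralizer ((P : Subgroup S) : Set S)).relIndex (normalizer ((P : Subgroup S) : Set S)) = p - 1)
    (x : MulAut S) : ∃ s : S, ∀ y ∈ (P : Subgroup S), (MulAut.conj s * x) y = y := by
  classical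
  obtain ⟨s₀, hs₀⟩ := exists_norm P x
  let β₀ : (P : Subgroup S) →* (P : Subgroup S) :=
    { toFun := fun y => ⟨(MulAut.conj s₀ * x) y, hs₀ y y.2⟩
      map_one' := Subtype.ext (map_one _)
      map_mul' := fun a b => Subtype.ext (map_mul _ _ _) }
  have hβ₀ : Function.Injective β₀ := by
    intro a b h
    exact Subtype.ext ((MulAut.conj s₀ * x).injective (congrArg Subtype.val h))
  let β : MulAut (P : Subgroup S) := MulEquiv.ofBijective β₀ ⟨hβ₀, Finite.surjective_of_injective hβ₀⟩
  have hcyc : IsCyclic (P : Subgroup S) := isCyclic_of_prime_card hP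
  have hcard : Nat.card (MulAut (P : Subgroup S)) = p - 1 := by
    rw [IsCyclic.card_mulAut, hP, Nat.totient_prime hp.out]
  let f := (P : Subgroup S).normalizerMonoidHom
  have hker : f.ker = (centralizer ((P : Subgroup S) : Set S)).subgroupOf (normalizer ((P : Subgroup S) : Set S)) :=
    Subgroup.normalizerMonoidHom_ker _
  have hr : Nat.card f.range = p - 1 := by
    rw [← he, ← Subgroup.index_ker, hker]
    rfl
  have hfin : Finite (MulAut (P : Subgroup S)) := inferInstance
  have htop : f.range = ⊤ := Subgroup.eq_top_of_card_eq _ (by rw [hr, hcard])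
  obtain ⟨n, hn⟩ : β ∈ f.range := by rw [htop]; trivial
  refine ⟨(n : S)⁻¹ * s₀, fun y hy => ?_⟩
  have h1 : (f n) ⟨y, hy⟩ = β ⟨y, hy⟩ := by rw [hn]
  have h2 : (n : S) * y * (n : S)⁻¹ = (MulAut.conj s₀ * x) y := congrArg Subtype.val h1
  rw [map_mul, mul_assoc, MulAut.mul_apply, ← h2, MulAut.conj_apply]
  group

end

section block

variable {G : Type u} [Group G] [Finite G] {p : ℕ} [hp : Fact p.Prime] {M : Ideal AlgInt}

theorem card_b0 (hM : IsPModular p M) (hp2 : p ≠ 2) (P : Sylow p G) (hP : Nat.card (P : Subgroup G) = p)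
    (he : (centralizer ((P : Subgroup G) : Set G)).relIndex (normalizer ((P : Subgroup G) : Set G)) = p - 1) :
    Nat.card (principalBlock M G) = p ∧ ∀ χ ∈ principalBlock M G, ¬ p ∣ charDegree (χ : G → ℂ) := by
  have hp2' := hp.out.two_le
  obtain ⟨h1, h2⟩ := Cfsg.Agent.S0960.result p M hM hp2 P hP (p - 1) he
  rw [Nat.div_self (by omega)] at h1
  refine ⟨by rw [h1]; omega, fun χ hχ hd => ?_⟩
  have hd' : (p : ℤ) ∣ (charDegree (χ : G → ℂ) : ℤ) := by exact_mod_cast hd
  have h4 : ((p - 1 : ℕ) : ℤ) = (p : ℤ) - 1 := by push_cast [Nat.cast_sub (by omega : 1 ≤ p)]; ring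
  have key : ¬ (p : ℤ) ∣ 1 := by
    intro h
    have := Int.le_of_dvd one_pos h
    omega
  rcases h2 χ hχ with h | h | h | h
  · exact key ((Int.ModEq.dvd_iff h).1 hd')
  · have h5 := (Int.ModEq.dvd_iff h).1 hd'
    exact key (by simpa using h5)
  · have h5 := (Int.ModEq.dvd_iff h).1 hd'
    rw [h4] at h5
    exact key (by simpa using (Int.dvd_sub (dvd_refl (p : ℤ)) h5))
  · have h5 := (Int.ModEq.dvd_iff h).1 hd'
    rw [h4] at h5
    exact key (by simpa using (Int.dvd_add (dvd_refl (p : ℤ)) h5))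

/-- `p = 3` : the three characters of the principal block are rational -/
theorem galc_three (hM : IsPModular 3 M) [Fact (Nat.Prime 3)] (P : Sylow 3 G) (hP : Nat.card (P : Subgroup G) = 3)
    (he : (centralizer ((P : Subgroup G) : Set G)).relIndex (normalizer ((P : Subgroup G) : Set G)) = 2)
    (σ : ℂ ≃+* ℂ) {θ : IrrCharacter G} (hθ : θ ∈ principalBlock M G) : galc σ θ = θ := by
  classical
  have _ := Fintype.ofFinite G
  obtain ⟨X, Y, hXY, hdisj, hX, hY, εX, ε, h1, h2, -, -, h3⟩ :=
    Cfsg.Agent.S4441.result 3 M hM (by norm_num) P hP 2 he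
  rw [Nat.card_coe_set_eq, Set.ncard_eq_two] at hX
  rw [Nat.card_coe_set_eq, show (3 - 1) / 2 = 1 from rfl, Set.ncard_eq_one] at hY
  obtain ⟨a, b, hab, rfl⟩ := hX
  obtain ⟨c, rfl⟩ := hY
  have hp1 : ¬ 3 ∣ orderOf (1 : G) := by rw [orderOf_one]; norm_num
  have h4 := h3 c rfl 1 hp1
  rw [finsum_mem_pair hab] at h4
  have hdeg : ∀ χ : IrrCharacter G, (χ : G → ℂ) 1 = charDegree (χ : G → ℂ) := fun χ =>
    Cfsg.Agent.Blocks.Basic.irr_one_eq_charDegree χ.2
  rw [hdeg, hdeg, hdeg] at h4
  have h5 : ε * (charDegree (c : G → ℂ) : ℤ) = εX a * (charDegree (a : G → ℂ) : ℤ) + εX b * (charDegree (b : G → ℂ) : ℤ) := by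
    exact_mod_cast h4
  have hmem : ∀ χ ∈ principalBlock M G, χ = a ∨ χ = b ∨ χ = c := by
    intro χ hχ
    rw [hXY] at hχ
    rcases hχ with (h | h) | h
    · exact Or.inl h
    · exact Or.inr (Or.inl h)
    · exact Or.inr (Or.inr h)
  by_contra hne
  have ht : triv G ∈ principalBlock M G := triv_mem hM
  have hσ := galc_mem σ hθ
  have hdt : charDegree (triv G : G → ℂ) = 1 := by
    have h6 := hdeg (triv G)
    have h7 : (triv G : G → ℂ) 1 = 1 := rfl
    rw [h7] at h6
    exact_mod_cast h6.symm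
  have hdσ : charDegree (galc σ θ : G → ℂ) = charDegree (θ : G → ℂ) := by
    have h6 := hdeg (galc σ θ)
    rw [galc_apply, hdeg θ, map_natCast] at h6
    exact_mod_cast h6.symm
  have hθt : θ ≠ triv G := by
    rintro rfl
    apply hne
    apply Subtype.ext
    funext g
    exact map_one σ
  have hσt : galc σ θ ≠ triv G := by
    intro h
    apply hθt
    apply Subtype.ext
    funext g
    have h6 := congrFun (congrArg Subtype.val h) g
    change σ ((θ : G → ℂ) g) = 1 at h6
    exact σ.injective (h6.trans (map_one σ).symm)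
  have ha := (h1 a (by simp)).1
  have hb := (h1 b (by simp)).1
  rcases hmem _ ht with h6 | h6 | h6 <;> rcases hmem _ hθ with h7 | h7 | h7 <;>
    rcases hmem _ hσ with h8 | h8 | h8 <;>
    first
    | exact absurd (h7.trans h6.symm) hθt
    | exact absurd (h8.trans h6.symm) hσt
    | exact absurd (h8.trans h7.symm) hne
    | (subst h6 h7 h8
       rw [hdt, hdσ] at h5
       rcases h2 with h2 | h2 <;> rcases ha with ha | ha <;> rcases hb with hb | hb <;>
         simp only [h2, ha, hb] at h5 <;> push_cast at h5 <;> omega)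

/-- a permutation of `p`-power order of `p` points with a fixed point is trivial -/
theorem perm_eq_one {α : Type u} [Finite α] (hα : Nat.card α = p) (π : Equiv.Perm α) {k : ℕ} (hk : π ^ p ^ k = 1)
    {a : α} (ha : π a = a) : π = 1 := by
  classical
  have hG : IsPGroup p (zpowers π) := by
    rintro ⟨x, hx⟩
    obtain ⟨i, rfl⟩ := mem_zpowers_iff.1 hx
    refine ⟨k, Subtype.ext ?_⟩
    change (π ^ i) ^ p ^ k = 1
    rw [← zpow_natCast, ← zpow_mul, mul_comm, zpow_mul, zpow_natCast, hk, one_zpow]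
  have h1 := hG.card_modEq_card_fixedPoints α
  rw [hα] at h1
  have ha' : a ∈ MulAction.fixedPoints (zpowers π) α := by
    rintro ⟨x, hx⟩
    obtain ⟨i, rfl⟩ := mem_zpowers_iff.1 hx
    change (π ^ i) a = a
    exact Equiv.Perm.zpow_apply_eq_self_of_apply_eq_self ha i
  have h2 : p ∣ Nat.card (MulAction.fixedPoints (zpowers π) α) :=
    (Nat.modEq_zero_iff_dvd.1 (h1.symm.trans (Nat.modEq_zero_iff_dvd.2 (dvd_refl p))))
  have h3 : 0 < Nat.card (MulAction.fixedPoints (zpowers π) α) := by
    have : Nonempty (MulAction.fixedPoints (zpowers π) α) := ⟨⟨a, ha'⟩⟩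
    exact Nat.card_pos
  have h4 := Nat.le_of_dvd h3 h2
  have h5 : MulAction.fixedPoints (zpowers π) α = Set.univ := by
    refine Set.eq_of_subset_of_ncard_le (Set.subset_univ _) ?_
    rw [Set.ncard_univ, hα, ← Nat.card_coe_set_eq]
    exact h4
  ext x
  have h6 : x ∈ MulAction.fixedPoints (zpowers π) α := by rw [h5]; trivial
  exact h6 ⟨π, mem_zpowers π⟩

end block

section main

variable {S : Type u} [Group S] [Fintype S] {p : ℕ} [hp : Fact p.Prime] {M : Ideal AlgInt}

theorem isIrr_aut (a : MulAut S) {θ : S → ℂ} (hθ : IsIrrCharacter S θ) : IsIrrCharacter S (fun s => θ (a s)) :=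
  isIrr_comp (a : S ≃* S).toMonoidHom (a : S ≃* S).surjective hθ

/-- elements of `X` which centralize `P` fix the members of the principal block -/
theorem fix_of_cent (hM : IsPModular p M) (hinj : Function.Injective (MulAut.conj : S → MulAut S))
    (X : Subgroup (MulAut S)) (hX : ∀ s : S, MulAut.conj s ∈ X)
    (hpX : ¬ p ∣ (MulAut.conj : S →* MulAut S).range.relIndex X) (Q : Sylow p S) {x : MulAut S} (hx : x ∈ X)
    (hxQ : ∀ y ∈ (Q : Subgroup S), x y = y) (θ : IrrCharacter S) (hθ : θ ∈ principalBlock M S) (s : S) :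
    (θ : S → ℂ) (x s) = (θ : S → ℂ) s := by
  classical
  have hfin : Finite (MulAut S) := inferInstance
  let N : Subgroup X := (MulAut.conj : S →* MulAut S).range.subgroupOf X
  have hN : N.Normal := by
    constructor
    rintro ⟨n, hnX⟩ ⟨s, hs⟩ g
    exact ⟨(g : MulAut S) s, by
      rw [← conj_apply_aut, hs]
      rfl⟩
  let e₀ : S →* N := { toFun := fun s => ⟨⟨MulAut.conj s, hX s⟩, ⟨s, rfl⟩⟩, map_one' := Subtype.ext (Subtype.ext (map_one _)),
                       map_mul' := fun a b => Subtype.ext (Subtype.ext (map_mul _ _ _)) }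
  have he₀ : Function.Bijective e₀ := by
    constructor
    · intro a b h
      exact hinj (congrArg Subtype.val (congrArg Subtype.val h))
    · rintro ⟨⟨n, hnX⟩, ⟨s, hs⟩⟩
      exact ⟨s, Subtype.ext (Subtype.ext hs)⟩
  let e : S ≃* N := MulEquiv.ofBijective e₀ he₀
  have hecj : ∀ (g : X) (s : S), cj N g (e s) = e ((g : MulAut S) s) := fun g s =>
    Subtype.ext (Subtype.ext (conj_apply_aut (g : MulAut S) s))
  let θN : IrrCharacter N := infl e.symm.toMonoidHom e.symm.surjective θ
  have hθNe : ∀ s, (θN : N → ℂ) (e s) = (θ : S → ℂ) s := fun s => by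
    change (θ : S → ℂ) (e.symm (e s)) = _
    rw [MulEquiv.symm_apply_apply]
  have hθN : θN ∈ principalBlock M N := infl_mem hM _ _ hθ
  obtain ⟨P, hP⟩ := exists_sylow hinj X hX hpX Q
  have h1 : (⟨x, hx⟩ : X) ∈ centralizer ((P : Subgroup X) : Set X) := by
    rw [mem_centralizer_iff]
    intro h hh
    obtain ⟨y, hy, hy'⟩ := (hP h).1 hh
    apply Subtype.ext
    change (h : MulAut S) * x = x * (h : MulAut S)
    have h7 := conj_apply_aut x y
    rw [hxQ y hy] at h7
    rw [hy', ← mul_inv_eq_iff_eq_mul.1 h7]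
  have h2 := centralizer_le_stab (N := N) hM hpX P θN hθN h1 (e s)
  rw [hecj, hθNe, hθNe] at h2
  exact h2

/-- **`|P| = p`, `|N(P) : C(P)| = p - 1`** -/
theorem rowA_of_full [IsSimpleGroup S] (hna : ¬ IsMulCommutative S) (hp2 : p ≠ 2) (P : Sylow p S)
    (hP : Nat.card (P : Subgroup S) = p)
    (he : (centralizer ((P : Subgroup S) : Set S)).relIndex (normalizer ((P : Subgroup S) : Set S)) = p - 1)
    (h57 : Cfsg.Agent.H685.BR.Row57 p S) : RowA p S := by
  classical
  have hinj := conj_injective hna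
  refine Cfsg.Agent.H362.CY.rowA_of_compl hna fun A X hX hXA hnX hpX ⟨k, hk⟩ M hM => ?_
  have hfin : Finite (MulAut S) := inferInstance
  obtain ⟨θ, hθ, hθ1, hgood⟩ := h57 M hM
  obtain ⟨hcard, hdeg⟩ := card_b0 hM hp2 P hP he
  have hfinB : Finite (principalBlock M S) := finite_principal
  -- Galois
  have hσθ : ∀ σ : ℂ ≃+* ℂ, ∀ g, σ ((θ : S → ℂ) g) = (θ : S → ℂ) g := by
    intro σ g
    by_cases h3 : p = 3
    · subst h3
      have := galc_three hM P hP he σ hθ
      exact congrFun (congrArg Subtype.val this) g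
    · obtain ⟨q, hq⟩ := hgood.1 h3 g
      rw [hq, map_ratCast]
  have hcyc : Cyc p (θ : S → ℂ) := by
    intro m hm hm1 g
    obtain ⟨σ, hσ⟩ := Characters.GaloisBasic.exists_ringEquiv_of_coprime (G := S) hm
    rw [← hσ _ (isIrr_isCharacter θ.2), hσθ]
  -- the automorphisms in `A` fix `θ`
  have hnorm : (X.subgroupOf A).Normal := ⟨fun a ha t => by
    rw [mem_subgroupOf] at ha ⊢
    exact hnX t t.2 a ha⟩
  have hconj : ∀ (s g : S), (θ : S → ℂ) (MulAut.conj s g) = (θ : S → ℂ) g := fun s g => isIrr_isClassFunction θ.2 g s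
  have hinv : ∀ a ∈ A, ∀ g, (θ : S → ℂ) (a g) = (θ : S → ℂ) g := by
    intro a ha g
    obtain ⟨s, hs⟩ := exists_cent P hP he a
    set c : MulAut S := MulAut.conj s * a with hc
    have hcA : c ∈ A := mul_mem (hXA (hX s)) ha
    -- the permutation of the block
    have hmem : ∀ (b : MulAut S) (χ : IrrCharacter S), χ ∈ principalBlock M S →
        infl (b : S ≃* S).toMonoidHom (b : S ≃* S).surjective χ ∈ principalBlock M S := fun b χ hχ => infl_mem hM _ _ hχ
    let f : MulAut S → principalBlock M S → principalBlock M S := fun b χ => ⟨_, hmem b χ.1 χ.2⟩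
    have hf : ∀ (b : MulAut S) (χ : principalBlock M S) (g : S), ((f b χ).1 : S → ℂ) g = (χ.1 : S → ℂ) (b g) :=
      fun b χ g => rfl
    let π : Equiv.Perm (principalBlock M S) :=
      { toFun := f c
        invFun := f c⁻¹
        left_inv := fun χ => Subtype.ext (Subtype.ext (funext fun g => by rw [hf, hf, MulAut.apply_inv_self]))
        right_inv := fun χ => Subtype.ext (Subtype.ext (funext fun g => by rw [hf, hf, MulAut.inv_apply_self])) }
    have hπ : ∀ (n : ℕ) (χ : principalBlock M S) (g : S), (((π ^ n) χ).1 : S → ℂ) g = (χ.1 : S → ℂ) ((c ^ n) g) := by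
      intro n
      induction n with
      | zero => intro χ g; rfl
      | succ n ih =>
        intro χ g
        rw [pow_succ, Equiv.Perm.mul_apply, ih, pow_succ']
        rfl
    have hcP : ∀ (n : ℕ), ∀ y ∈ (P : Subgroup S), (c ^ n) y = y := by
      intro n
      induction n with
      | zero => intro y _; rfl
      | succ n ih =>
        intro y hy
        rw [pow_succ, MulAut.mul_apply, hs y hy, ih y hy]
    have hcX : c ^ p ^ k ∈ X := by
      have h1 := pow_index_mem (X.subgroupOf A) ⟨c, hcA⟩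
      rw [mem_subgroupOf] at h1
      rw [← hk]
      exact h1
    have hk1 : π ^ p ^ k = 1 := by
      ext χ : 1
      apply Subtype.ext
      apply Subtype.ext
      funext g
      rw [hπ, Equiv.Perm.one_apply]
      exact fix_of_cent hM hinj X hX hpX P hcX (hcP _) χ.1 χ.2 g
    have h1 := perm_eq_one (p := p) hcard π hk1 (a := ⟨triv S, triv_mem hM⟩) (Subtype.ext (Subtype.ext rfl))
    have h2 : (((π : Equiv.Perm (principalBlock M S)) ⟨θ, hθ⟩).1 : S → ℂ) g = (θ : S → ℂ) g := by
      rw [h1, Equiv.Perm.one_apply]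
    have h3 : (θ : S → ℂ) (c g) = (θ : S → ℂ) g := h2
    rw [← hconj s (a g)]
    exact h3
  obtain ⟨Ψ, h1, h2⟩ := wit_of_ad' hM hinj X hX hpX P θ hθ hθ1 (hdeg θ hθ) hcyc fun t _ _ => exists_cent P hP he t
  exact ⟨Ψ, h1, fun a ha x y hy => h2 a (fun x hx => hnX a ha x hx) ⟨1, one_mem _, fun s => hinv a ha s⟩ x y hy⟩

end main

end Cfsg.Agent.H685.CY
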