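import Mathlib
import Cfsg.Agent.H685.Alperin
import Cfsg.Agent.H684.BlockTools
import Cfsg.Agent.H770.CY.Defs
import Cfsg.Agent.CharactersDeep.IndFun
import Cfsg.Agent.Characters.GaloisBasic
import Cfsg.Agent.Characters.MonomialVec
import Cfsg.Agent.OddOrderCharacters.GaloisTwist

/-!
# S4829 : witnesses by Alperin's theorem (helper685)

`N` normal in `G` of index prime to `p`, `θ ∈ B₀(N)`, `T` the stabilizer of `θ`, `T = N C_T(P)`: the unique extension
`χ ∈ B₀(T)` of `θ` is `Cyc p` if `θ` is, and `Ψ = Ind_T^G χ` is a witness (`main_abs`); `wit_of_ad` is the form for a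
group of automorphisms.
-/

set_option autoImplicit false
set_option linter.unusedSectionVars false

namespace Cfsg.Agent.H685.CY

open Cfsg Cfsg.Agent.H770.CY Cfsg.Agent.H684.BlockTools Cfsg.Agent.Blocks.Local Cfsg.Agent.Characters.Core
open scoped ComplexConjugate Pointwise

universe u v

section galois

variable {G : Type u} [Group G] {p : ℕ} {M : Ideal AlgInt}

/-- The Galois conjugate of an irreducible character. -/
noncomputable def galc (σ : ℂ ≃+* ℂ) (χ : IrrCharacter G) : IrrCharacter G :=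
  ⟨fun g => σ ((χ : G → ℂ) g), OddOrderCharacters.GaloisTwist.isIrrCharacter_map σ χ.2⟩

theorem galc_apply (σ : ℂ ≃+* ℂ) (χ : IrrCharacter G) (g : G) :
    (galc σ χ : G → ℂ) g = σ ((χ : G → ℂ) g) := rfl

theorem centralizer_pow [Finite G] {m : ℕ} (hm : m.Coprime (Nat.card G)) (g : G) :
    Subgroup.centralizer ({g ^ m} : Set G) = Subgroup.centralizer ({g} : Set G) := by
  ext x
  rw [Subgroup.mem_centralizer_singleton_iff, Subgroup.mem_centralizer_singleton_iff]
  constructor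
  · intro h
    obtain ⟨k, hk⟩ := exists_pow_eq_self_of_coprime (x := g) (n := m)
      (Nat.Coprime.coprime_dvd_right (orderOf_dvd_natCard g) hm)
    have h1 : Commute x (g ^ m) := h
    have h2 := h1.pow_right k
    rw [hk] at h2
    exact h2
  · intro h
    have h1 : Commute x g := h
    exact h1.pow_right m

/-- The principal block is stable under field automorphisms. -/
theorem galc_mem [Finite G] (σ : ℂ ≃+* ℂ) {χ : IrrCharacter G} (h : χ ∈ principalBlock M G) :
    galc σ χ ∈ principalBlock M G := by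
  obtain ⟨m, hm, hσ⟩ := Characters.GaloisBasic.exists_pow_of_ringEquiv (G := G) σ
  have h1 : SameBlock M (fun _ : G => (1 : ℂ)) (χ : G → ℂ) := h
  show SameBlock M (fun _ : G => (1 : ℂ)) (galc σ χ : G → ℂ)
  intro g
  have h2 := h1 (g ^ m)
  have h3 : centralChar (fun _ : G => (1 : ℂ)) (g ^ m) = centralChar (fun _ : G => (1 : ℂ)) g := by
    rw [Blocks.Basic.centralChar_def, Blocks.Basic.centralChar_def, centralizer_pow hm]
  have h4 : centralChar (galc σ χ : G → ℂ) g = centralChar (χ : G → ℂ) (g ^ m) := by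
    rw [Blocks.Basic.centralChar_def, Blocks.Basic.centralChar_def, centralizer_pow hm, galc_apply, galc_apply,
      hσ _ (Blocks.Basic.irr_isCharacter χ.2), hσ _ (Blocks.Basic.irr_isCharacter χ.2), one_pow]
  rw [h3] at h2
  rw [h4]
  exact h2

end galois

section

variable {G : Type u} [Group G] [Finite G] {p : ℕ} [hp : Fact p.Prime] {M : Ideal AlgInt} {N : Subgroup G}

/-- conjugation on a normal subgroup -/
def cj (N : Subgroup G) [hN : N.Normal] (g : G) (n : N) : N := ⟨g * n * g⁻¹, hN.conj_mem n n.2 g⟩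

theorem cj_one [N.Normal] (n : N) : cj N 1 n = n := Subtype.ext (by simp [cj])

theorem cj_mul [N.Normal] (g h : G) (n : N) : cj N (g * h) n = cj N g (cj N h n) :=
  Subtype.ext (by simp only [cj, mul_inv_rev]; group)

/-- the stabilizer of a function on `N` -/
def stab (N : Subgroup G) [N.Normal] (θ : N → ℂ) : Subgroup G where
  carrier := {g | ∀ n : N, θ (cj N g n) = θ n}
  mul_mem' := by
    intro a b ha hb n
    rw [cj_mul, ha, hb]
  one_mem' := fun n => by rw [cj_one]
  inv_mem' := by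
    intro a ha n
    have h := ha (cj N a⁻¹ n)
    rw [← cj_mul, mul_inv_cancel, cj_one] at h
    exact h.symm

theorem mem_stab [N.Normal] {θ : N → ℂ} {g : G} : g ∈ stab N θ ↔ ∀ n : N, θ (cj N g n) = θ n := Iff.rfl

theorem le_stab [N.Normal] {θ : N → ℂ} (hθ : IsClassFunction N θ) : N ≤ stab N θ := by
  intro g hg n
  exact hθ n ⟨g, hg⟩

theorem sylow_le [hN : N.Normal] (hidx : ¬ p ∣ N.index) (P : Sylow p G) : (P : Subgroup G) ≤ N := by
  intro x hx
  obtain ⟨k, hk⟩ := P.isPGroup' ⟨x, hx⟩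
  have h1 : x ^ p ^ k = 1 := congrArg Subtype.val hk
  have h2 : orderOf (QuotientGroup.mk' N x) ∣ p ^ k := by
    rw [orderOf_dvd_iff_pow_eq_one, ← map_pow, h1, map_one]
  have h3 : orderOf (QuotientGroup.mk' N x) ∣ N.index := by
    rw [Subgroup.index_eq_card]
    exact orderOf_dvd_natCard _
  have h4 : Nat.Coprime (p ^ k) N.index := Nat.Coprime.pow_left _ ((Nat.Prime.coprime_iff_not_dvd hp.out).2 hidx)
  have h5 : orderOf (QuotientGroup.mk' N x) = 1 := Nat.eq_one_of_dvd_coprimes h4 h2 h3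
  rw [orderOf_eq_one_iff] at h5
  exact (QuotientGroup.eq_one_iff x).1 h5

/-- **existence of the extension in the principal block**, and its uniqueness -/
theorem exists_ext [hN : N.Normal] (hM : IsPModular p M) (hidx : ¬ p ∣ N.index) (P : Sylow p G) (T : Subgroup G)
    (hNT : N ≤ T) (hTC : ∀ t ∈ T, ∃ n ∈ N, n * t ∈ Subgroup.centralizer ((P : Subgroup G) : Set G))
    (θ : IrrCharacter N) (hθ : θ ∈ principalBlock M N) :
    ∃ χ : IrrCharacter T, χ ∈ principalBlock M T ∧ (∀ n : N, (χ : T → ℂ) ⟨n, hNT n.2⟩ = (θ : N → ℂ) n) ∧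
      ∀ χ' : IrrCharacter T, χ' ∈ principalBlock M T → (∀ n : N, (χ' : T → ℂ) ⟨n, hNT n.2⟩ = (θ : N → ℂ) n) →
        χ' = χ := by
  classical
  have hNN : (N.subgroupOf T).Normal := inferInstance
  have := Fintype.ofFinite (N.subgroupOf T)
  let e : N.subgroupOf T ≃* N := Subgroup.subgroupOfEquivOfLe hNT
  have he : ∀ x : N.subgroupOf T, ((e x : N) : G) = ((x : T) : G) := fun x => rfl
  let θ' : IrrCharacter (N.subgroupOf T) := infl e.toMonoidHom e.surjective θ
  have hθ' : θ' ∈ principalBlock M (N.subgroupOf T) := infl_mem hM _ _ hθ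
  have hidx' : ¬ p ∣ (N.subgroupOf T).index := by
    intro h
    apply hidx
    have h1 : N.relIndex T * T.index = N.index := Subgroup.relIndex_mul_index hNT
    rw [← h1]
    exact dvd_mul_of_dvd_left h _
  have hPT : (P : Subgroup G) ≤ T := (sylow_le hidx P).trans hNT
  let P' : Sylow p T := P.subtype hPT
  have hP' : ∀ x : T, x ∈ P' ↔ (x : G) ∈ P := fun x => Iff.rfl
  have hsup : N.subgroupOf T ⊔ Subgroup.centralizer ((P' : Subgroup T) : Set T) = ⊤ := by
    rw [eq_top_iff]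
    intro t _
    obtain ⟨n, hn, hc⟩ := hTC t t.2
    have h1 : (⟨n, hNT hn⟩ * t : T) ∈ Subgroup.centralizer ((P' : Subgroup T) : Set T) := by
      rw [Subgroup.mem_centralizer_iff]
      intro y hy
      rw [Subgroup.mem_centralizer_iff] at hc
      exact Subtype.ext (hc y hy)
    have h2 : t = (⟨n, hNT hn⟩⁻¹ : T) * (⟨n, hNT hn⟩ * t) := by group
    rw [h2]
    exact Subgroup.mul_mem_sup (Subgroup.inv_mem _ (Subgroup.mem_subgroupOf.2 hn)) h1
  obtain ⟨χ, hχ, hover⟩ := Cfsg.Agent.H685.Alperin.exists_over hM hidx' P' hsup hθ'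
  have hirr := Cfsg.Agent.H685.Alperin.isIrr_restrict hM P' hsup hχ
  have h1 : (θ' : N.subgroupOf T → ℂ) = (fun n : N.subgroupOf T => (χ : T → ℂ) n) := by
    by_contra hne
    exact hover (classInner_irr_ne θ'.2 hirr hne)
  have h2 : ∀ n : N, (χ : T → ℂ) ⟨n, hNT n.2⟩ = (θ : N → ℂ) n := by
    intro n
    exact (congrFun h1 ⟨⟨n, hNT n.2⟩, Subgroup.mem_subgroupOf.2 n.2⟩).symm
  refine ⟨χ, hχ, h2, fun χ' hχ' h' => ?_⟩
  refine Cfsg.Agent.H685.Alperin.unique hM hidx' P' hsup hχ hχ' fun n => ?_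
  have h3 := h' ⟨(n : T), Subgroup.mem_subgroupOf.1 n.2⟩
  have h4 := h2 ⟨(n : T), Subgroup.mem_subgroupOf.1 n.2⟩
  exact h3.trans h4.symm

/-- a character of `B₀(N)` is invariant under the centralizer of a Sylow subgroup -/
theorem centralizer_le_stab [hN : N.Normal] (hM : IsPModular p M) (hidx : ¬ p ∣ N.index) (P : Sylow p G)
    (θ : IrrCharacter N) (hθ : θ ∈ principalBlock M N) :
    Subgroup.centralizer ((P : Subgroup G) : Set G) ≤ stab N (θ : N → ℂ) := by
  intro c hc n
  obtain ⟨χ, -, h1, -⟩ := exists_ext hM hidx P (N ⊔ Subgroup.centralizer ((P : Subgroup G) : Set G)) le_sup_left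
    (fun t ht => by
      rw [← SetLike.mem_coe, Subgroup.normal_mul] at ht
      obtain ⟨n, hn, c, hc, rfl⟩ := Set.mem_mul.1 ht
      exact ⟨n⁻¹, N.inv_mem hn, by simpa using hc⟩) θ hθ
  rw [← h1, ← h1]
  exact isIrr_isClassFunction χ.2 ⟨n, _⟩ ⟨c, Subgroup.mem_sup_right hc⟩

theorem dvd_card_of_index {T : Subgroup G} : Nat.card T ∣ Nat.card G := Subgroup.card_subgroup_dvd_card T

/-- uniqueness makes the extension `Cyc p` -/
theorem cyc_ext {T : Subgroup G} (hNT : N ≤ T) {θ : IrrCharacter N}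
    (hc : ∀ k : ℕ, Nat.Coprime k (Nat.card T) → k ≡ 1 [MOD p] → ∀ n : N, (θ : N → ℂ) (n ^ k) = (θ : N → ℂ) n)
    {χ : IrrCharacter T} (hχ : χ ∈ principalBlock M T) (h1 : ∀ n : N, (χ : T → ℂ) ⟨n, hNT n.2⟩ = (θ : N → ℂ) n)
    (hu : ∀ χ' : IrrCharacter T, χ' ∈ principalBlock M T → (∀ n : N, (χ' : T → ℂ) ⟨n, hNT n.2⟩ = (θ : N → ℂ) n) →
        χ' = χ) : Cyc p (χ : T → ℂ) := by
  intro k hk hk1 g
  obtain ⟨σ, hσ⟩ := Characters.GaloisBasic.exists_ringEquiv_of_coprime (G := T) hk
  have h2 := hu (galc σ χ) (galc_mem σ hχ) fun n => by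
    rw [galc_apply, hσ _ (isIrr_isCharacter χ.2)]
    have h3 := h1 (n ^ k)
    rw [hc k hk hk1 n] at h3
    exact h3
  rw [← hσ _ (isIrr_isCharacter χ.2), ← galc_apply, h2]


/-- restriction of the induced character to `N` -/
theorem indFun_apply_N [hN : N.Normal] [Fintype G] {T : Subgroup G} (hNT : N ≤ T) {θ : N → ℂ} {χ : T → ℂ}
    (h1 : ∀ n : N, χ ⟨n, hNT n.2⟩ = θ n) (n : N) :
    indFun T χ n = (Nat.card T : ℂ)⁻¹ * ∑ x : G, θ (cj N x⁻¹ n) := by
  rw [CharactersDeep.IndFun.indFun_def]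
  congr 1
  refine Finset.sum_congr rfl fun x _ => ?_
  have h2 : x⁻¹ * (n : G) * x = (cj N x⁻¹ n : N) := by
    change _ = x⁻¹ * (n : G) * x⁻¹⁻¹
    rw [inv_inv]
  rw [h2, CharactersDeep.IndFun.extendByZero_mem T χ (hNT (cj N x⁻¹ n).2), h1]

theorem isIrr_cj [hN : N.Normal] (g : G) (θ : IrrCharacter N) :
    IsIrrCharacter N (fun n => (θ : N → ℂ) (cj N g n)) := by
  let f : N →* N := { toFun := cj N g, map_one' := Subtype.ext (by simp [cj]), map_mul' := fun a b => Subtype.ext (by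
    simp only [cj, Subgroup.coe_mul]; group) }
  have hf : Function.Surjective f := fun n => ⟨cj N g⁻¹ n, by
    change cj N g (cj N g⁻¹ n) = n
    rw [← cj_mul, mul_inv_cancel, cj_one]⟩
  exact isIrr_comp f hf θ.2

/-- **the witness for `G`** -/
theorem main_abs [hN : N.Normal] [Fintype G] [Fintype N] (hM : IsPModular p M) (hidx : ¬ p ∣ N.index) (P : Sylow p G)
    (θ : IrrCharacter N) (hθ : θ ∈ principalBlock M N)
    (hTC : ∀ t ∈ stab N (θ : N → ℂ), ∃ n ∈ N, n * t ∈ Subgroup.centralizer ((P : Subgroup G) : Set G))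
    {d : ℕ} (hd : (θ : N → ℂ) 1 = d) (hdp : ¬ p ∣ d)
    (hc : ∀ k : ℕ, Nat.Coprime k (Nat.card N) → k ≡ 1 [MOD p] → ∀ n : N, (θ : N → ℂ) (n ^ k) = (θ : N → ℂ) n) :
    ∃ Ψ : G → ℂ, IsCharacter G Ψ ∧ Cyc p Ψ ∧ (∃ n : ℕ, Ψ 1 = n ∧ ¬ p ∣ n) ∧
      (∀ η : IrrCharacter N, classInner (fun n : N => Ψ n) (η : N → ℂ) = 0 ∨
        (classInner (fun n : N => Ψ n) (η : N → ℂ) = 1 ∧ ∃ g : G, ∀ n, (η : N → ℂ) n = (θ : N → ℂ) (cj N g n))) ∧
      (∀ a : G, (∃ P' : Sylow p G, a ∈ Subgroup.centralizer ((P' : Subgroup G) : Set G)) → MemLocalIdeal M (Ψ a - Ψ 1)) ∧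
      ∀ c : G ≃* G, (∀ x, c x ∈ N ↔ x ∈ N) → (∀ (n : N) (h : c n ∈ N), (θ : N → ℂ) ⟨c n, h⟩ = (θ : N → ℂ) n) →
        ∀ x, Ψ (c x) = Ψ x := by
  classical
  have hMp := isPrime_of_isPModular hM
  set T := stab N (θ : N → ℂ) with hTdef
  have hNT : N ≤ T := le_stab (isIrr_isClassFunction θ.2)
  obtain ⟨χ, hχ, h1, hu⟩ := exists_ext hM hidx P T hNT hTC θ hθ
  have hcard : ∀ {H : Subgroup G}, Nat.card H ∣ Nat.card G := fun {H} => Subgroup.card_subgroup_dvd_card H
  have hcT : Cyc p (χ : T → ℂ) := cyc_ext hNT (fun k hk hk1 => hc k (Nat.Coprime.coprime_dvd_right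
    (Subgroup.card_dvd_of_le hNT) hk) hk1) hχ h1 hu
  have hχ1 : (χ : T → ℂ) 1 = d := by
    have h2 := h1 1
    rw [hd] at h2
    exact h2
  have hT0 : (Nat.card T : ℂ) ≠ 0 := Nat.cast_ne_zero.2 Nat.card_pos.ne'
  have _ := Fintype.ofFinite (G ⧸ T)
  have hsum : ∀ g, indFun T (χ : T → ℂ) g = ∑ q : G ⧸ T, extendByZero T (χ : T → ℂ) (q.out⁻¹ * g * q.out) :=
    fun g => Characters.MonomialVec.indFun_eq_sum_quotient T _ (fun h k => isIrr_isClassFunction χ.2 k h) g
  have hext1 : extendByZero T (χ : T → ℂ) 1 = d := by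
    rw [CharactersDeep.IndFun.extendByZero_mem T _ T.one_mem]
    exact hχ1
  have hone : indFun T (χ : T → ℂ) 1 = (T.index * d : ℕ) := by
    rw [hsum]
    simp only [mul_one, inv_mul_cancel, hext1]
    rw [Finset.sum_const, Finset.card_univ, ← Nat.card_eq_fintype_card, ← Subgroup.index_eq_card, nsmul_eq_mul]
    push_cast
    rfl
  refine ⟨indFun T (χ : T → ℂ), CharactersDeep.IndFun.isCharacter_indFun T (isIrr_isCharacter χ.2), ?_,
    ⟨T.index * d, hone, ?_⟩, ?_, ?_, ?_⟩
  · -- Cyc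
    intro k hk hk1 g
    rw [CharactersDeep.IndFun.indFun_def, CharactersDeep.IndFun.indFun_def]
    congr 1
    refine Finset.sum_congr rfl fun x _ => ?_
    have h2 : x⁻¹ * g ^ k * x = (x⁻¹ * g * x) ^ k := by
      have := conj_pow (i := k) (a := x⁻¹) (b := g)
      rw [inv_inv] at this
      exact this.symm
    rw [h2]
    by_cases h3 : x⁻¹ * g * x ∈ T
    · rw [CharactersDeep.IndFun.extendByZero_mem T _ h3, CharactersDeep.IndFun.extendByZero_mem T _ (T.pow_mem h3 k)]
      exact hcT k (Nat.Coprime.coprime_dvd_right hcard hk) hk1 ⟨_, h3⟩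
    · rw [CharactersDeep.IndFun.extendByZero_notMem T _ h3, CharactersDeep.IndFun.extendByZero_notMem]
      intro h4
      apply h3
      obtain ⟨j, hj⟩ := exists_pow_eq_self_of_coprime (x := x⁻¹ * g * x) (n := k)
        (Nat.Coprime.coprime_dvd_right (orderOf_dvd_natCard _) hk)
      rw [← hj]
      exact T.pow_mem h4 j
  · -- degree
    rw [hp.out.dvd_mul]
    rintro (h2 | h2)
    · exact hidx (h2.trans (Subgroup.index_dvd_of_le hNT))
    · exact hdp h2
  · -- restriction to N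
    intro η
    have h2 : (fun n : N => indFun T (χ : T → ℂ) n) =
        (Nat.card T : ℂ)⁻¹ • ∑ x : G, (fun n : N => (θ : N → ℂ) (cj N x⁻¹ n)) := by
      funext n
      rw [indFun_apply_N hNT h1 n, Pi.smul_apply, Finset.sum_apply, smul_eq_mul]
    have h3 : ∀ x : G, classInner (fun n : N => (θ : N → ℂ) (cj N x⁻¹ n)) (η : N → ℂ) =
        if (η : N → ℂ) = (fun n : N => (θ : N → ℂ) (cj N x⁻¹ n)) then 1 else 0 := by
      intro x
      split_ifs with h4
      · rw [h4]
        exact classInner_irr_self (isIrr_cj x⁻¹ θ)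
      · exact classInner_irr_ne (isIrr_cj x⁻¹ θ) η.2 (fun h => h4 h.symm)
    rw [h2, classInner_smul_left, classInner_sum_left]
    simp only [h3]
    by_cases h4 : ∃ x₀ : G, (η : N → ℂ) = (fun n : N => (θ : N → ℂ) (cj N x₀⁻¹ n))
    · right
      obtain ⟨x₀, hx₀⟩ := h4
      refine ⟨?_, x₀⁻¹, fun n => congrFun hx₀ n⟩
      rw [Finset.sum_boole]
      have h5 : (Finset.univ.filter fun x : G => (η : N → ℂ) = (fun n : N => (θ : N → ℂ) (cj N x⁻¹ n))).card =
          Nat.card T := by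
        rw [← Fintype.card_subtype, ← Nat.card_eq_fintype_card]
        refine Nat.card_congr
          { toFun := fun x => ⟨x₀⁻¹ * x.1, ?_⟩
            invFun := fun t => ⟨x₀ * t.1, ?_⟩
            left_inv := fun x => Subtype.ext (by simp)
            right_inv := fun t => Subtype.ext (by simp) }
        · intro n
          have h6 := hx₀.symm.trans x.2
          have h7 := congrFun h6 (cj N x.1 n)
          rw [← cj_mul, ← cj_mul, inv_mul_cancel, cj_one] at h7
          exact h7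
        · rw [hx₀]
          funext n
          have h6 := t.2 (cj N (x₀ * t.1)⁻¹ n)
          rw [← cj_mul, mul_inv_rev, mul_inv_cancel_left] at h6
          rw [h6, mul_inv_rev]
      rw [h5, inv_mul_cancel₀ hT0]
    · left
      push Not at h4
      rw [Finset.sum_eq_zero fun x _ => if_neg (h4 x), mul_zero]
  · -- local
    rintro a ⟨P', ha⟩
    rw [hsum, hsum, ← Finset.sum_sub_distrib]
    refine memLocalIdeal_sum fun q _ => ?_
    set x := q.out
    have hP'N : (P' : Subgroup G) ≤ N := sylow_le hidx P'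
    let Q : Sylow p G := (MulAut.conj x⁻¹) • P'
    have hQ : x⁻¹ * a * x ∈ Subgroup.centralizer ((Q : Subgroup G) : Set G) := by
      rw [Subgroup.mem_centralizer_iff] at ha ⊢
      intro y hy
      have h2 : x * y * x⁻¹ ∈ (P' : Subgroup G) := by
        have h3 : y ∈ (MulAut.conj x⁻¹) • (P' : Subgroup G) := hy
        rw [Subgroup.mem_pointwise_smul_iff_inv_smul_mem] at h3
        simpa [MulAut.smul_def] using h3
      have h4 := ha _ h2
      calc y * (x⁻¹ * a * x) = x⁻¹ * ((x * y * x⁻¹) * a) * x := by group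
        _ = x⁻¹ * (a * (x * y * x⁻¹)) * x := by rw [h4]
        _ = _ := by group
    have hT : x⁻¹ * a * x ∈ T := centralizer_le_stab hM hidx Q θ hθ hQ
    have h5 : q.out⁻¹ * 1 * q.out = 1 := by group
    rw [h5, hext1, CharactersDeep.IndFun.extendByZero_mem T _ hT]
    let Q' : Sylow p T := Q.subtype ((sylow_le hidx Q).trans hNT)
    have h6 : (⟨x⁻¹ * a * x, hT⟩ : T) ∈ Subgroup.centralizer ((Q' : Subgroup T) : Set T) := by
      rw [Subgroup.mem_centralizer_iff]
      intro y hy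
      rw [Subgroup.mem_centralizer_iff] at hQ
      exact Subtype.ext (hQ y hy)
    have h7 := Cfsg.Agent.H685.Alperin.ratio_sub_one_of_centralizer hM Q' hχ h6
    have h8 := memLocalIdeal_mul_left (memLocalRing_natCast (M := M) d) h7
    have hd0 : (d : ℂ) ≠ 0 := by
      intro h
      have : d = 0 := by exact_mod_cast h
      exact hdp (this ▸ dvd_zero p)
    rw [hχ1] at h8
    convert h8 using 1
    field_simp
  · -- automorphisms
    intro c hcN hcθ x
    have hcT' : ∀ t : G, c t ∈ T ↔ t ∈ T := by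
      have key : ∀ (t : G) (n : N) (h : c n ∈ N), (θ : N → ℂ) (cj N (c t) ⟨c n, h⟩) = (θ : N → ℂ) (cj N t n) := by
        intro t n h
        have h2 : c ((cj N t n : N) : G) ∈ N := (hcN _).2 (cj N t n).2
        rw [← hcθ (cj N t n) h2]
        refine congrArg (θ : N → ℂ) (Subtype.ext ?_)
        change c t * c n * (c t)⁻¹ = c (t * n * t⁻¹)
        rw [map_mul, map_mul, map_inv]
      intro t
      constructor
      · intro h n
        have h2 : c n ∈ N := (hcN _).2 n.2
        rw [← key t n h2, h ⟨c n, h2⟩, hcθ]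
      · intro h n
        have h2 : c.symm n ∈ N := (hcN _).1 (by rw [MulEquiv.apply_symm_apply]; exact n.2)
        have h3 : c ((⟨c.symm n, h2⟩ : N) : G) ∈ N := by
          change c (c.symm n) ∈ N
          rw [MulEquiv.apply_symm_apply]; exact n.2
        have h4 : (⟨c ((⟨c.symm n, h2⟩ : N) : G), h3⟩ : N) = n := Subtype.ext (MulEquiv.apply_symm_apply c (n : G))
        have h5 := key t ⟨c.symm n, h2⟩ h3
        rw [h4] at h5
        have h6 := hcθ ⟨c.symm n, h2⟩ h3
        rw [h4] at h6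
        rw [h5, h ⟨c.symm n, h2⟩, h6]
    -- the automorphism of `T`
    let cT : T ≃* T :=
      { toFun := fun t => ⟨c t, (hcT' _).2 t.2⟩
        invFun := fun t => ⟨c.symm t, (hcT' _).1 (by rw [MulEquiv.apply_symm_apply]; exact t.2)⟩
        left_inv := fun t => Subtype.ext (by simp)
        right_inv := fun t => Subtype.ext (by simp)
        map_mul' := fun a b => Subtype.ext (by simp) }
    have h2 := hu (infl cT.toMonoidHom cT.surjective χ) (infl_mem hM _ _ hχ) fun n => by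
      have h3 : c n ∈ N := (hcN _).2 n.2
      have h4 : (infl cT.toMonoidHom cT.surjective χ : T → ℂ) ⟨n, hNT n.2⟩ = (χ : T → ℂ) ⟨c n, hNT h3⟩ := rfl
      rw [h4]
      have h5 := h1 ⟨c n, h3⟩
      rw [hcθ] at h5
      exact h5
    have h3 : ∀ t : T, (χ : T → ℂ) (cT t) = (χ : T → ℂ) t := fun t => congrFun (congrArg Subtype.val h2) t
    have h4 : ∀ g : G, extendByZero T (χ : T → ℂ) (c g) = extendByZero T (χ : T → ℂ) g := by
      intro g
      by_cases h5 : g ∈ T
      · rw [CharactersDeep.IndFun.extendByZero_mem T _ h5, CharactersDeep.IndFun.extendByZero_mem T _ ((hcT' g).2 h5)]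
        exact h3 ⟨g, h5⟩
      · rw [CharactersDeep.IndFun.extendByZero_notMem T _ h5,
          CharactersDeep.IndFun.extendByZero_notMem T _ (fun h => h5 ((hcT' g).1 h))]
    rw [CharactersDeep.IndFun.indFun_def, CharactersDeep.IndFun.indFun_def]
    congr 1
    rw [← Equiv.sum_comp c.toEquiv]
    refine Finset.sum_congr rfl fun y _ => ?_
    have h5 : (c.toEquiv y)⁻¹ * c x * c.toEquiv y = c (y⁻¹ * x * y) := by
      change (c y)⁻¹ * c x * c y = _
      rw [map_mul, map_mul, map_inv]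
    rw [h5, h4]

end

section aut

variable {S : Type u} [Group S]

theorem conj_apply_aut (x : MulAut S) (s : S) : x * MulAut.conj s * x⁻¹ = MulAut.conj (x s) := by
  ext y
  simp only [MulAut.mul_apply, MulAut.conj_apply, map_mul, MulAut.apply_inv_self, map_inv]

variable [Fintype S] {p : ℕ} [hp : Fact p.Prime] {M : Ideal AlgInt}

/-- the Sylow subgroup of `X` from the one of `S` -/
theorem exists_sylow (hinj : Function.Injective (MulAut.conj : S → MulAut S)) (X : Subgroup (MulAut S))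
    (hX : ∀ s : S, MulAut.conj s ∈ X) (hpX : ¬ p ∣ (MulAut.conj : S →* MulAut S).range.relIndex X) (Q : Sylow p S) :
    ∃ P : Sylow p X, ∀ x : X, x ∈ (P : Subgroup X) ↔ ∃ y ∈ (Q : Subgroup S), (x : MulAut S) = MulAut.conj y := by
  let f : S →* X := (MulAut.conj : S →* MulAut S).codRestrict X hX
  have hf : Function.Injective f := fun a b h => hinj (congrArg Subtype.val h)
  have h1 : IsPGroup p ((Q : Subgroup S).map f) := Q.isPGroup'.map f
  have hr : (MulAut.conj : S →* MulAut S).range.subgroupOf X = f.range := by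
    ext x
    rw [Subgroup.mem_subgroupOf, MonoidHom.mem_range, MonoidHom.mem_range]
    exact ⟨fun ⟨s, hs⟩ => ⟨s, Subtype.ext hs⟩, fun ⟨s, hs⟩ => ⟨s, congrArg Subtype.val hs⟩⟩
  have h2 : ¬ p ∣ ((Q : Subgroup S).map f).index := by
    have h3 : (Q : Subgroup S).map f ≤ f.range := by
      rw [MonoidHom.range_eq_map]
      exact Subgroup.map_mono le_top
    have h4 : ((Q : Subgroup S).map f).relIndex f.range * f.range.index = ((Q : Subgroup S).map f).index :=
      Subgroup.relIndex_mul_index h3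
    have h5 : ((Q : Subgroup S).map f).relIndex f.range = (Q : Subgroup S).index := by
      rw [MonoidHom.range_eq_map, Subgroup.relIndex_map_map_of_injective _ _ hf, Subgroup.relIndex_top_right]
    have h6 : f.range.index = (MulAut.conj : S →* MulAut S).range.relIndex X := by
      rw [← hr]
      rfl
    rw [← h4, h5, h6, hp.out.dvd_mul]
    rintro (h | h)
    · exact Q.not_dvd_index h
    · exact hpX h
  refine ⟨h1.toSylow h2, fun x => ?_⟩
  have h7 : ((h1.toSylow h2 : Sylow p X) : Subgroup X) = (Q : Subgroup S).map f := rfl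
  rw [h7, Subgroup.mem_map]
  exact ⟨fun ⟨y, hy, h⟩ => ⟨y, hy, (congrArg Subtype.val h).symm⟩, fun ⟨y, hy, h⟩ => ⟨y, hy, Subtype.ext h.symm⟩⟩

/-- **the witness for a group `X` of automorphisms, `X / Inn S` a `p'`-group** -/
theorem wit_of_ad' (hM : IsPModular p M) (hinj : Function.Injective (MulAut.conj : S → MulAut S))
    (X : Subgroup (MulAut S)) (hX : ∀ s : S, MulAut.conj s ∈ X)
    (hpX : ¬ p ∣ (MulAut.conj : S →* MulAut S).range.relIndex X) (Q : Sylow p S) (θ : IrrCharacter S)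
    (hθ : θ ∈ principalBlock M S) (hθ1 : (θ : S → ℂ) ≠ fun _ => 1) (hdeg : ¬ p ∣ charDegree (θ : S → ℂ))
    (hcyc : Cyc p (θ : S → ℂ))
    (hTC : ∀ t ∈ X, (∀ s, (θ : S → ℂ) (t s) = (θ : S → ℂ) s) → ∃ s : S, ∀ y ∈ (Q : Subgroup S), (MulAut.conj s * t) y = y) :
    ∃ Ψ : X → ℂ, WitA p M S X hX Ψ ∧ ∀ b : MulAut S, (∀ x ∈ X, b * x * b⁻¹ ∈ X) →
      (∃ x ∈ X, ∀ s, (θ : S → ℂ) (b s) = (θ : S → ℂ) (x s)) →
        ∀ x y : X, (y : MulAut S) = b * x * b⁻¹ → Ψ y = Ψ x := by
  classical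
  have hfin : Finite (MulAut S) := inferInstance
  have _ := Fintype.ofFinite X
  let N : Subgroup X := (MulAut.conj : S →* MulAut S).range.subgroupOf X
  have _ := Fintype.ofFinite N
  have hN : N.Normal := by
    constructor
    rintro ⟨n, hnX⟩ ⟨s, hs⟩ g
    exact ⟨(g : MulAut S) s, by
      rw [← conj_apply_aut, hs]
      rfl⟩
  let e₀ : S →* N := { toFun := fun s => ⟨⟨MulAut.conj s, hX s⟩, ⟨s, rfl⟩⟩, map_one' := Subtype.ext (Subtype.ext (map_one _)),
                       map_mul' := fun a b => Subtype.ext (Subtype.ext (map_mul _ _ _)) }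
  have he₀ : Function.Bijective e₀ := by
    constructor
    · intro a b h
      exact hinj (congrArg Subtype.val (congrArg Subtype.val h))
    · rintro ⟨⟨n, hnX⟩, ⟨s, hs⟩⟩
      exact ⟨s, Subtype.ext (Subtype.ext hs)⟩
  let e : S ≃* N := MulEquiv.ofBijective e₀ he₀
  have hecoe : ∀ s, (((e s : N) : X) : MulAut S) = MulAut.conj s := fun s => rfl
  have hecj : ∀ (g : X) (s : S), cj N g (e s) = e ((g : MulAut S) s) := fun g s =>
    Subtype.ext (Subtype.ext (conj_apply_aut (g : MulAut S) s))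
  let θN : IrrCharacter N := infl e.symm.toMonoidHom e.symm.surjective θ
  have hθNe : ∀ s, (θN : N → ℂ) (e s) = (θ : S → ℂ) s := fun s => by
    change (θ : S → ℂ) (e.symm (e s)) = _
    rw [MulEquiv.symm_apply_apply]
  have hθN : θN ∈ principalBlock M N := infl_mem hM _ _ hθ
  obtain ⟨P, hP⟩ := exists_sylow hinj X hX hpX Q
  obtain ⟨d, hd⟩ : ∃ d : ℕ, (θ : S → ℂ) 1 = d := ⟨_, Cfsg.Agent.Blocks.Basic.irr_one_eq_charDegree θ.2⟩
  have hdp : ¬ p ∣ d := by
    have h2 := Cfsg.Agent.Blocks.Basic.irr_one_eq_charDegree θ.2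
    rw [hd] at h2
    have h3 : d = charDegree (θ : S → ℂ) := by exact_mod_cast h2
    rwa [h3]
  have hstab : ∀ t : X, t ∈ stab N (θN : N → ℂ) → ∀ s, (θ : S → ℂ) ((t : MulAut S) s) = (θ : S → ℂ) s := by
    intro t ht s
    have h2 := ht (e s)
    rw [hecj, hθNe, hθNe] at h2
    exact h2
  obtain ⟨Ψ, h1, h2, h3, h4, h5, h6⟩ := main_abs (G := X) (N := N) hM hpX P θN hθN (fun t ht => by
      obtain ⟨s, hs⟩ := hTC t t.2 (hstab t ht)
      refine ⟨(e s : X), (e s).2, ?_⟩
      rw [Subgroup.mem_centralizer_iff]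
      intro h hh
      obtain ⟨y, hy, hy'⟩ := (hP h).1 hh
      apply Subtype.ext
      change (h : MulAut S) * (MulAut.conj s * (t : MulAut S)) = MulAut.conj s * (t : MulAut S) * (h : MulAut S)
      have h7 := conj_apply_aut (MulAut.conj s * (t : MulAut S)) y
      rw [hs y hy] at h7
      rw [hy', ← mul_inv_eq_iff_eq_mul.1 h7]) (d := d) (by
      have h2 := hθNe 1
      rw [map_one] at h2
      rw [h2, hd]) hdp (fun k hk hk1 n => by
      obtain ⟨s, rfl⟩ := e.surjective n
      rw [← map_pow, hθNe, hθNe]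
      exact hcyc k (by rwa [Nat.card_congr e.toEquiv]) hk1 s)
  have hmul : ∀ θ' : IrrCharacter S, mul (res hX Ψ) (θ' : S → ℂ) =
      classInner (fun n : N => Ψ n) (infl e.symm.toMonoidHom e.symm.surjective θ' : N → ℂ) := by
    intro θ'
    rw [classInner_def]
    unfold mul
    rw [Nat.card_congr e.toEquiv]
    congr 1
    refine Fintype.sum_equiv e.toEquiv _ _ fun s => ?_
    have h7 : (infl e.symm.toMonoidHom e.symm.surjective θ' : N → ℂ) (e.toEquiv s) = (θ' : S → ℂ) s := by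
      change (θ' : S → ℂ) (e.symm (e s)) = _
      rw [MulEquiv.symm_apply_apply]
    rw [h7]
    rfl
  refine ⟨Ψ, ⟨h1, h2, h3, ?_, ?_⟩, ?_⟩
  · intro θ'
    rcases h4 (infl e.symm.toMonoidHom e.symm.surjective θ') with h7 | ⟨h7, g, hg⟩
    · left
      rw [hmul, h7]
    · right
      have h8 : ∀ s, (θ' : S → ℂ) s = (θ : S → ℂ) ((g : MulAut S) s) := by
        intro s
        have h9 := hg (e s)
        rw [hecj, hθNe] at h9
        rw [← h9]
        change _ = (θ' : S → ℂ) (e.symm (e s))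
        rw [MulEquiv.symm_apply_apply]
      refine ⟨by rw [hmul, h7], fun h9 => hθ1 ?_, ?_⟩
      · funext s
        have h10 := h8 ((g : MulAut S)⁻¹ s)
        rw [MulAut.apply_inv_self, h9] at h10
        exact h10.symm
      · intro k hk hk1 s
        rw [h8, h8, map_pow]
        exact hcyc k hk hk1 _
  · rintro a - ⟨Q', hQ'⟩
    obtain ⟨P', hP'⟩ := exists_sylow hinj X hX hpX Q'
    refine h5 a ⟨P', ?_⟩
    rw [Subgroup.mem_centralizer_iff]
    intro h hh
    obtain ⟨y, hy, hy'⟩ := (hP' h).1 hh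
    apply Subtype.ext
    change (h : MulAut S) * (a : MulAut S) = (a : MulAut S) * (h : MulAut S)
    have h7 := conj_apply_aut (a : MulAut S) y
    rw [hQ' y hy] at h7
    rw [hy', ← mul_inv_eq_iff_eq_mul.1 h7]
  · rintro b hb ⟨x₀, hx₀, hbx⟩ x y hy
    set b' : MulAut S := b * x₀⁻¹ with hb'
    have hb'X : ∀ x ∈ X, b' * x * b'⁻¹ ∈ X := by
      intro x hx
      have h7 := hb _ (X.mul_mem (X.mul_mem (X.inv_mem hx₀) hx) hx₀)
      have h8 : b' * x * b'⁻¹ = b * (x₀⁻¹ * x * x₀) * b⁻¹ := by rw [hb']; group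
      rw [h8]
      exact h7
    have hb'θ : ∀ s, (θ : S → ℂ) (b' s) = (θ : S → ℂ) s := by
      intro s
      rw [hb', MulAut.mul_apply, hbx, MulAut.apply_inv_self]
    let c₀ : X →* X := { toFun := fun x => ⟨b' * x * b'⁻¹, hb'X x x.2⟩, map_one' := Subtype.ext (by simp),
                         map_mul' := fun u v => Subtype.ext (by simp [mul_assoc]) }
    have hc₀ : Function.Injective c₀ := by
      intro u v h
      have h7 := congrArg Subtype.val h
      change b' * (u : MulAut S) * b'⁻¹ = b' * (v : MulAut S) * b'⁻¹ at h7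
      exact Subtype.ext (mul_left_cancel (mul_right_cancel h7))
    let c : X ≃* X := MulEquiv.ofBijective c₀ ⟨hc₀, Finite.surjective_of_injective hc₀⟩
    have hc : ∀ u : X, ((c u : X) : MulAut S) = b' * u * b'⁻¹ := fun u => rfl
    have hce : ∀ s : S, c ((e s : N) : X) = ((e (b' s) : N) : X) := fun s => Subtype.ext (conj_apply_aut b' s)
    have h7 := h6 c (fun u => by
      constructor
      · rintro ⟨s, hs⟩
        refine ⟨b'⁻¹ s, ?_⟩
        change MulAut.conj (b'⁻¹ s) = (u : MulAut S)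
        have h8 : (MulAut.conj s : MulAut S) = b' * (u : MulAut S) * b'⁻¹ := hs
        rw [← conj_apply_aut, h8]
        group
      · intro hu
        obtain ⟨s, hs⟩ := e.surjective ⟨u, hu⟩
        have h8 : u = ((e s : N) : X) := by rw [hs]
        rw [h8, hce]
        exact (e (b' s)).2) (fun n h => by
      obtain ⟨s, rfl⟩ := e.surjective n
      have h8 : (⟨c ((e s : N) : X), h⟩ : N) = e (b' s) := Subtype.ext (hce s)
      rw [h8, hθNe, hθNe, hb'θ])
    have hx₀' : x₀ ∈ X := hx₀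
    have h8 : y = c (⟨x₀, hx₀'⟩ * x * (⟨x₀, hx₀'⟩ : X)⁻¹) := by
      apply Subtype.ext
      rw [hy, hc]
      change b * (x : MulAut S) * b⁻¹ = b' * (x₀ * (x : MulAut S) * x₀⁻¹) * b'⁻¹
      rw [hb']
      group
    rw [h8, h7]
    exact isCharacter_isClassFunction h1 _ _

/-- the form with the stabilizer `T` -/
theorem wit_of_ad (hM : IsPModular p M) (hinj : Function.Injective (MulAut.conj : S → MulAut S))
    (X T : Subgroup (MulAut S)) (hX : ∀ s : S, MulAut.conj s ∈ X)
    (hpX : ¬ p ∣ (MulAut.conj : S →* MulAut S).range.relIndex X) (Q : Sylow p S) (θ : IrrCharacter S)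
    (hT : ∀ x ∈ X, x ∈ T ↔ ∀ s, (θ : S → ℂ) (x s) = (θ : S → ℂ) s)
    (hTC : ∀ t ∈ T, ∃ s : S, ∀ y ∈ (Q : Subgroup S), (MulAut.conj s * t) y = y)
    (hθ : θ ∈ principalBlock M S) (hθ1 : (θ : S → ℂ) ≠ fun _ => 1) (hdeg : ¬ p ∣ charDegree (θ : S → ℂ))
    (hcyc : Cyc p (θ : S → ℂ)) :
    ∃ Ψ : X → ℂ, WitA p M S X hX Ψ ∧ ∀ b : MulAut S, (∀ x ∈ X, b * x * b⁻¹ ∈ X) →
      (∃ x ∈ X, ∀ s, (θ : S → ℂ) (b s) = (θ : S → ℂ) (x s)) →
        ∀ x y : X, (y : MulAut S) = b * x * b⁻¹ → Ψ y = Ψ x :=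
  wit_of_ad' hM hinj X hX hpX Q θ hθ hθ1 hdeg hcyc fun t ht h => hTC t ((hT t ht).2 h)

/-- `MulAut.conj` is injective on a nonabelian simple group -/
theorem conj_injective {S : Type u} [Group S] [IsSimpleGroup S] (hna : ¬ IsMulCommutative S) :
    Function.Injective (MulAut.conj : S → MulAut S) := by
  have h1 : (MulAut.conj : S →* MulAut S).ker = ⊥ := by
    rcases (inferInstance : ((MulAut.conj : S →* MulAut S).ker).Normal).eq_bot_or_eq_top with h | h
    · exact h
    · exfalso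
      apply hna
      refine ⟨⟨fun a b => ?_⟩⟩
      have h2 : a ∈ (MulAut.conj : S →* MulAut S).ker := by rw [h]; trivial
      have h3 := DFunLike.congr_fun (MonoidHom.mem_ker.1 h2) b
      rw [MulAut.conj_apply, MulAut.one_apply] at h3
      exact mul_inv_eq_iff_eq_mul.1 h3
  exact (MonoidHom.ker_eq_bot_iff _).1 h1

end aut

end Cfsg.Agent.H685.CY
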